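import Groth.Agent.BiratNormal.Ring
import Mathlib.AlgebraicGeometry.Morphisms.QuasiFinite
import Mathlib.AlgebraicGeometry.Morphisms.IsIso
import Mathlib.AlgebraicGeometry.FunctionField

universe u

open CategoryTheory AlgebraicGeometry Topology

namespace Groth.Agent.BiratNormal

theorem bijective_awayMap {A B : Type u} [CommRing A] [CommRing B] [IsDomain A] [IsDomain B]
    (A' B' : Type u) [CommRing A'] [CommRing B'] [Algebra A A'] [Algebra B B'] (φ : A →+* B) (r : A)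
    [IsLocalization.Away r A'] [IsLocalization.Away (φ r) B'] (hr : r ≠ 0) (hinj : Function.Injective φ)
    (h : ∀ b : B, ∃ n : ℕ, φ r ^ n * b ∈ φ.range) :
    Function.Bijective (IsLocalization.Away.map A' B' φ r) := by
  refine ⟨(injective_iff_map_eq_zero _).mpr fun x hx => ?_, fun y => ?_⟩
  · obtain ⟨⟨a, _, n, rfl⟩, rfl⟩ := IsLocalization.mk'_surjective (Submonoid.powers r) x
    rw [IsLocalization.Away.map, IsLocalization.map_mk', IsLocalization.mk'_eq_zero_iff] at hx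
    obtain ⟨⟨_, m, rfl⟩, hm⟩ := hx
    simp only [← map_pow, ← map_mul] at hm
    obtain h0 | h0 := mul_eq_zero.mp (hinj (hm.trans (map_zero φ).symm))
    · exact absurd h0 (pow_ne_zero _ hr)
    · subst h0
      exact IsLocalization.mk'_zero _
  · obtain ⟨⟨b, _, n, rfl⟩, rfl⟩ := IsLocalization.mk'_surjective (Submonoid.powers (φ r)) y
    obtain ⟨m, a, ha⟩ := h b
    refine ⟨IsLocalization.mk' A' a (⟨r ^ (m + n), m + n, rfl⟩ : Submonoid.powers r), ?_⟩
    rw [IsLocalization.Away.map, IsLocalization.map_mk']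
    refine IsLocalization.mk'_eq_of_eq' ?_
    show b * φ (r ^ (m + n)) = φ a * φ r ^ n
    rw [map_pow, ha, pow_add]
    ring

variable {X Y : Scheme.{u}} [IsIntegral X] [IsIntegral Y] (f : X ⟶ Y) [LocallyOfFiniteType f]

/-- Zariski: a birational morphism, quasi-finite at a point over a normal point, is a local isomorphism there -/
theorem exists_nhd_isIso (hbir : IsIso (f.stalkMap (genericPoint X))) (x : X)
    (hn : IsIntegrallyClosed (Y.presheaf.stalk (f x))) (hqf : f.QuasiFiniteAt x) :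
    ∃ (D : Y.Opens) (V : X.Opens) (e : V ≤ f ⁻¹ᵁ D), f x ∈ D ∧ x ∈ V ∧ IsIso (f.resLE D V e) := by
  obtain ⟨U, hU, hxU, -⟩ := exists_isAffineOpen_mem_and_subset (U := (⊤ : Y.Opens)) (x := f x) trivial
  obtain ⟨V, hV, hxV, hVU⟩ := exists_isAffineOpen_mem_and_subset (U := f ⁻¹ᵁ U) (x := x) hxU
  haveI : Nonempty U := ⟨⟨f x, hxU⟩⟩
  haveI : Nonempty V := ⟨⟨x, hxV⟩⟩
  let φ : Γ(Y, U) →+* Γ(X, V) := (f.appLE U V hVU).hom
  letI := φ.toAlgebra
  have hηV : genericPoint X ∈ V :=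
    (genericPoint_specializes x).mem_open V.2 hxV
  have hgerm : ∀ a : Γ(Y, U), X.presheaf.germ V _ hηV (φ a) =
      f.stalkMap (genericPoint X) (Y.presheaf.germ U (f (genericPoint X)) (hVU hηV) a) := by
    intro a
    rw [Scheme.Hom.germ_stalkMap_apply, ← X.presheaf.germ_res_apply (homOfLE hVU) _ hηV]
    rfl
  have hbij := ConcreteCategory.bijective_of_isIso (f.stalkMap (genericPoint X))
  have hgX := germ_injective_of_isIntegral (X := X) (U := V) (genericPoint X) hηV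
  have hgY := germ_injective_of_isIntegral (X := Y) (U := U) (f (genericPoint X)) (hVU hηV)
  have hinj : Function.Injective φ := fun a a' h => hgY (hbij.injective (by rw [← hgerm, ← hgerm, h]))
  have hbir' : ∀ b : Γ(X, V), ∃ a s : Γ(Y, U), s ≠ 0 ∧ φ s * b = φ a := by
    intro b
    obtain ⟨w, hw⟩ := hbij.surjective (X.presheaf.germ V _ hηV b)
    letI := TopCat.Presheaf.algebra_section_stalk Y.presheaf (⟨f (genericPoint X), hVU hηV⟩ : U)
    haveI := hU.isLocalization_stalk ⟨f (genericPoint X), hVU hηV⟩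
    obtain ⟨⟨a, s⟩, hs⟩ := IsLocalization.surj
      (hU.primeIdealOf ⟨f (genericPoint X), hVU hηV⟩).asIdeal.primeCompl w
    refine ⟨a, s, fun h => s.2 (by rw [h]; exact Ideal.zero_mem _), hgX ?_⟩
    rw [map_mul, hgerm, hgerm, ← hw, mul_comm, ← map_mul]
    exact congrArg _ hs
  haveI : Algebra.FiniteType Γ(Y, U) Γ(X, V) :=
    HasRingHomProperty.appLE @LocallyOfFiniteType f ‹_› ⟨U, hU⟩ ⟨V, hV⟩ hVU
  haveI : Algebra.QuasiFiniteAt Γ(Y, U) (hV.primeIdealOf ⟨x, hxV⟩).asIdeal :=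
    hqf.quasiFiniteAt hV hU hVU hxV
  have hp : (hV.primeIdealOf ⟨x, hxV⟩).asIdeal.comap φ = (hU.primeIdealOf ⟨f x, hxU⟩).asIdeal :=
    congrArg PrimeSpectrum.asIdeal (IsAffineOpen.comap_primeIdealOf_appLE U hU V hV hVU hxV)
  haveI : IsIntegrallyClosed (Localization.AtPrime ((hV.primeIdealOf ⟨x, hxV⟩).asIdeal.comap φ)) := by
    letI := TopCat.Presheaf.algebra_section_stalk Y.presheaf (⟨f x, hxU⟩ : U)
    haveI : IsLocalization.AtPrime (Y.presheaf.stalk (f x)) ((hV.primeIdealOf ⟨x, hxV⟩).asIdeal.comap φ) := by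
      simp only [hp]
      exact hU.isLocalization_stalk ⟨f x, hxU⟩
    exact IsIntegrallyClosed.of_equiv (h := hn) (IsLocalization.algEquiv
      ((hV.primeIdealOf ⟨x, hxV⟩).asIdeal.comap φ).primeCompl (Y.presheaf.stalk (f x))
      (Localization.AtPrime ((hV.primeIdealOf ⟨x, hxV⟩).asIdeal.comap φ))).toRingEquiv
  obtain ⟨s, hs, hb⟩ := exists_forall_pow_mul_mem_range (A := Γ(Y, U)) (B := Γ(X, V)) hinj hbir'
    (hV.primeIdealOf ⟨x, hxV⟩).asIdeal
  have hu : IsUnit (Y.presheaf.germ U (f x) hxU s) := by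
    letI := TopCat.Presheaf.algebra_section_stalk Y.presheaf (⟨f x, hxU⟩ : U)
    haveI := hU.isLocalization_stalk ⟨f x, hxU⟩
    exact IsLocalization.map_units _ (⟨s, fun hm => hs (hp.symm ▸ hm)⟩ : (hU.primeIdealOf ⟨f x, hxU⟩).asIdeal.primeCompl)
  have hxD : f x ∈ Y.basicOpen s := (Y.mem_basicOpen s (f x) hxU).mpr hu
  have hxV' : x ∈ X.basicOpen (φ s) := by
    refine (X.mem_basicOpen (φ s) x hxV).mpr ?_
    have : X.presheaf.germ V x hxV (φ s) = f.stalkMap x (Y.presheaf.germ U (f x) hxU s) := by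
      rw [Scheme.Hom.germ_stalkMap_apply, ← X.presheaf.germ_res_apply (homOfLE hVU) _ hxV]
      rfl
    rw [this]
    exact hu.map (f.stalkMap x).hom
  have hle : X.basicOpen (φ s) ≤ f ⁻¹ᵁ Y.basicOpen s := by simp [φ, Scheme.Hom.appLE]
  refine ⟨Y.basicOpen s, X.basicOpen (φ s), hle, hxD, hxV', ?_⟩
  have hs0 : s ≠ 0 := fun h => hs (by rw [h]; exact Ideal.zero_mem _)
  haveI := hU.isLocalization_basicOpen s
  haveI := hV.isLocalization_basicOpen (φ s)
  have hbj : Function.Bijective (f.appLE (Y.basicOpen s) (X.basicOpen (φ s)) hle) := by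
    rw [show f.appLE (Y.basicOpen s) (X.basicOpen (φ s)) hle = _ from IsAffineOpen.appLE_eq_away_map f hU hV hVU s]
    exact bijective_awayMap _ _ φ s hs0 hinj hb
  haveI : IsIso (f.appLE (Y.basicOpen s) (X.basicOpen (φ s)) hle) :=
    (ConcreteCategory.isIso_iff_bijective _).mpr hbj
  show (MorphismProperty.isomorphisms Scheme) (f.resLE (Y.basicOpen s) (X.basicOpen (φ s)) hle)
  haveI : IsAffine (Y.basicOpen s).toScheme := hU.basicOpen s
  refine (HasAffineProperty.iff_of_isAffine (P := MorphismProperty.isomorphisms Scheme)).mpr ⟨hV.basicOpen (φ s), ?_⟩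
  have e : Scheme.Hom.appTop (f.resLE (Y.basicOpen s) (X.basicOpen (φ s)) hle) =
      (Y.basicOpen s).topIso.hom ≫ f.appLE (Y.basicOpen s) (X.basicOpen (φ s)) hle ≫ (X.basicOpen (φ s)).topIso.inv := by
    simp only [Scheme.Opens.topIso, Functor.mapIso_hom, Functor.mapIso_inv, eqToIso.hom, eqToIso.inv, Iso.op_hom,
      Iso.op_inv, eqToHom_op, Scheme.Hom.appTop, Scheme.Hom.app_eq_appLE, Scheme.Hom.resLE_appLE]
    erw [Scheme.Hom.appLE_map, Scheme.Hom.map_appLE]
    rfl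
  rw [e]
  infer_instance

/-- globalisation when the morphism is separated -/
theorem isIso_morphismRestrict_of_nhd [IsSeparated f] (D : Y.Opens) (V : X.Opens) (e : V ≤ f ⁻¹ᵁ D)
    (hne : (V : Set X).Nonempty) [IsIso (f.resLE D V e)] : IsIso (f ∣_ D) := by
  suffices hV : V = f ⁻¹ᵁ D by
    subst hV
    rwa [Scheme.Hom.resLE_eq_morphismRestrict] at *
  refine le_antisymm e fun z hz => ?_
  haveI : IsSeparated (f ∣_ D) := IsZariskiLocalAtTarget.restrict ‹_› D
  let σ : D.toScheme ⟶ (f ⁻¹ᵁ D).toScheme := inv (f.resLE D V e) ≫ X.homOfLE e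
  have hσ : σ ≫ (f ∣_ D) = 𝟙 _ := by
    rw [Category.assoc, IsIso.inv_comp_eq, Category.comp_id]
    simp [← cancel_mono D.ι]
  haveI : IsClosedImmersion σ := by
    have : IsClosedImmersion (σ ≫ (f ∣_ D)) := by rw [hσ]; infer_instance
    exact IsClosedImmersion.of_comp σ (f ∣_ D)
  have hr : Set.range σ = (f ⁻¹ᵁ D).ι ⁻¹' (V : Set X) := by
    ext w
    constructor
    · rintro ⟨a, rfl⟩
      show (σ ≫ (f ⁻¹ᵁ D).ι) a ∈ V
      rw [Category.assoc, Scheme.homOfLE_ι, Scheme.Hom.comp_apply]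
      exact ((inv (f.resLE D V e)) a).2
    · intro hw
      refine ⟨f.resLE D V e ⟨w.1, hw⟩, ?_⟩
      rw [← Scheme.Hom.comp_apply, IsIso.hom_inv_id_assoc]
      exact Subtype.ext (congr($(X.homOfLE_ι e) ⟨w.1, hw⟩))
  have hclo : IsClopen ((f ⁻¹ᵁ D).ι ⁻¹' (V : Set X)) :=
    ⟨hr ▸ σ.isClosedEmbedding.isClosed_range, V.2.preimage (f ⁻¹ᵁ D).ι.continuous⟩
  haveI : Nonempty (f ⁻¹ᵁ D).toScheme := ⟨⟨hne.some, e hne.some_mem⟩⟩
  haveI : IsIntegral (f ⁻¹ᵁ D).toScheme := isIntegral_of_isOpenImmersion (f ⁻¹ᵁ D).ι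
  obtain h | h := isClopen_iff.mp hclo
  · exact absurd (show (⟨hne.some, e hne.some_mem⟩ : (f ⁻¹ᵁ D).toScheme) ∈ (f ⁻¹ᵁ D).ι ⁻¹' (V : Set X) from
      hne.some_mem) (by rw [h]; exact id)
  · exact (Set.eq_univ_iff_forall.mp h ⟨z, hz⟩ : _)

end Groth.Agent.BiratNormal
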