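import Mathlib.RingTheory.ZariskisMainTheorem
import Mathlib.RingTheory.Localization.LocalizationLocalization

universe u

namespace Groth.Agent.BiratNormal

variable {A B : Type u} [CommRing A] [CommRing B] [IsDomain A] [IsDomain B] [Algebra A B]

/-- an integral element of a birational extension lies in the base near a normal point -/
theorem exists_mul_mem_range_of_isIntegral (hinj : Function.Injective (algebraMap A B))
    (hbir : ∀ b : B, ∃ a s : A, s ≠ 0 ∧ algebraMap A B s * b = algebraMap A B a)
    (p : Ideal A) [p.IsPrime] [IsIntegrallyClosed (Localization.AtPrime p)]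
    {b : B} (hb : IsIntegral A b) :
    ∃ t ∉ p, algebraMap A B t * b ∈ (algebraMap A B).range := by
  let K := FractionRing A
  letI : Algebra (Localization.AtPrime p) K := IsLocalization.localizationAlgebraOfSubmonoidLe
    (Localization.AtPrime p) K p.primeCompl (nonZeroDivisors A) p.primeCompl_le_nonZeroDivisors
  haveI : IsScalarTower A (Localization.AtPrime p) K := IsLocalization.localization_isScalarTower_of_submonoid_le
    (Localization.AtPrime p) K p.primeCompl (nonZeroDivisors A) p.primeCompl_le_nonZeroDivisors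
  haveI : IsFractionRing (Localization.AtPrime p) K :=
    IsFractionRing.isFractionRing_of_isDomain_of_isLocalization p.primeCompl (Localization.AtPrime p) K
  obtain ⟨a, s, hs, he⟩ := hbir b
  let L := FractionRing B
  have hψ : Function.Injective (algebraMap A L) := by
    rw [IsScalarTower.algebraMap_eq A B L]
    exact (IsFractionRing.injective B L).comp hinj
  let ψ : K →ₐ[A] L := IsFractionRing.liftAlgHom (g := Algebra.ofId A L) hψ
  let z : K := IsLocalization.mk' K a (⟨s, mem_nonZeroDivisors_of_ne_zero hs⟩ : nonZeroDivisors A)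
  have hz : ψ z = algebraMap B L b := by
    have hs0 : algebraMap A L s ≠ 0 := fun h => hs (hψ (by rw [h, map_zero]))
    refine mul_left_cancel₀ hs0 ?_
    rw [← ψ.commutes s, ← map_mul, show algebraMap A K s * z = algebraMap A K a from IsLocalization.mk'_spec' K a _, ψ.commutes, ψ.commutes,
      IsScalarTower.algebraMap_apply A B L, IsScalarTower.algebraMap_apply A B L, ← he, map_mul]
  have hzi : IsIntegral A z := by
    refine (isIntegral_algHom_iff ψ ψ.toRingHom.injective).mp ?_
    rw [hz]
    exact hb.map (IsScalarTower.toAlgHom A B L)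
  obtain ⟨w, hw⟩ := IsIntegrallyClosed.isIntegral_iff.mp (hzi.tower_top (A := Localization.AtPrime p))
  obtain ⟨⟨c, t⟩, ht⟩ := IsLocalization.surj p.primeCompl w
  refine ⟨t, t.2, c, IsFractionRing.injective B L ?_⟩
  have h1 : algebraMap (Localization.AtPrime p) K w * algebraMap A K t = algebraMap A K c := by
    rw [IsScalarTower.algebraMap_apply A (Localization.AtPrime p) K,
      IsScalarTower.algebraMap_apply A (Localization.AtPrime p) K, ← map_mul]
    exact congrArg _ ht
  have h2 := congrArg ψ h1
  rw [map_mul, ψ.commutes, ψ.commutes, hw, hz] at h2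
  rw [map_mul, ← IsScalarTower.algebraMap_apply, ← IsScalarTower.algebraMap_apply, mul_comm]
  exact h2.symm

/-- a birational finite type extension, quasi-finite at a point over a normal point, is an isomorphism near it -/
theorem exists_forall_pow_mul_mem_range [Algebra.FiniteType A B]
    (hinj : Function.Injective (algebraMap A B))
    (hbir : ∀ b : B, ∃ a s : A, s ≠ 0 ∧ algebraMap A B s * b = algebraMap A B a)
    (q : Ideal B) [q.IsPrime] [Algebra.QuasiFiniteAt A q]
    [IsIntegrallyClosed (Localization.AtPrime (q.comap (algebraMap A B)))] :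
    ∃ s : A, s ∉ q.comap (algebraMap A B) ∧
      ∀ b : B, ∃ n : ℕ, algebraMap A B s ^ n * b ∈ (algebraMap A B).range := by
  classical
  set p := q.comap (algebraMap A B)
  obtain ⟨r, hr, hri, hrm⟩ := Algebra.zariskisMainProperty_iff.mp
    (Algebra.ZariskisMainProperty.of_finiteType (R := A) q)
  obtain ⟨t, ht, a₀, ha₀⟩ := exists_mul_mem_range_of_isIntegral hinj hbir p hri
  have ha₀p : a₀ ∉ p := fun h => by
    have : algebraMap A B t * r ∈ q := ha₀ ▸ h
    exact ((‹q.IsPrime›.mem_or_mem this).elim ht hr)
  have hgen : ∀ b : B, ∃ σ ∉ p, algebraMap A B σ * b ∈ (algebraMap A B).range := by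
    intro b
    obtain ⟨m, hm⟩ := hrm b
    obtain ⟨t', ht', a, ha⟩ := exists_mul_mem_range_of_isIntegral hinj hbir p hm
    refine ⟨a₀ ^ m * t', fun h => ?_, t ^ m * a, ?_⟩
    · exact (Ideal.IsPrime.mem_or_mem inferInstance h).elim
        (fun h => ha₀p (Ideal.IsPrime.mem_of_pow_mem inferInstance m h)) ht'
    · rw [map_mul, map_pow, ha, map_mul, map_pow, ha₀, mul_pow]
      ring
  obtain ⟨G, hG⟩ := (inferInstance : Algebra.FiniteType A B).out
  choose σ hσp hσ using hgen
  refine ⟨∏ b ∈ G, σ b, fun h => ?_, fun b => ?_⟩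
  · obtain ⟨b, -, hb⟩ := (Ideal.IsPrime.prod_mem_iff (p := p)).mp h
    exact hσp b hb
  set s := ∏ b ∈ G, σ b
  have hmem : b ∈ Algebra.adjoin A (G : Set B) := hG ▸ Algebra.mem_top
  induction hmem using Algebra.adjoin_induction with
  | mem b hb =>
    obtain ⟨e, he⟩ := Finset.dvd_prod_of_mem σ hb
    obtain ⟨a, ha⟩ := hσ b
    refine ⟨1, e * a, ?_⟩
    rw [pow_one, map_mul, ha]
    change _ = algebraMap A B s * b
    rw [show s = σ b * e from he, map_mul]
    ring
  | algebraMap a => exact ⟨0, a, by rw [pow_zero, one_mul]⟩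
  | add x y _ _ hx hy =>
    obtain ⟨n, a, ha⟩ := hx
    obtain ⟨m, c, hc⟩ := hy
    refine ⟨n + m, s ^ m * a + s ^ n * c, ?_⟩
    rw [map_add, map_mul, map_mul, map_pow, map_pow, ha, hc, pow_add]
    ring
  | mul x y _ _ hx hy =>
    obtain ⟨n, a, ha⟩ := hx
    obtain ⟨m, c, hc⟩ := hy
    refine ⟨n + m, a * c, ?_⟩
    rw [map_mul, ha, hc, pow_add]
    ring

end Groth.Agent.BiratNormal
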